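import Cfsg.Prelude.Def_Spor_Suz
import Cfsg.Agent.Coset.Suz.Main

/-!
A group of the order of the Suzuki sporadic group with seven elements satisfying the presentation is
isomorphic to the presented group.
-/

set_option autoImplicit false

namespace CfsgLib.SuzUniq

open Cfsg Cfsg.Spor

variable {G : Type*} [Group G]

/-- The relations of the presentation on seven elements. -/
structure Rels (a b c d e f g : G) : Prop where
  a2 : a * a = 1
  b2 : b * b = 1
  c2 : c * c = 1
  d2 : d * d = 1
  e2 : e * e = 1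
  f2 : f * f = 1
  g2 : g * g = 1
  ab : (a * b) ^ 5 = 1
  bc : (b * c) ^ 3 = 1
  cd : (c * d) ^ 8 = 1
  de : (d * e) ^ 3 = 1
  bf : (b * f) ^ 3 = 1
  fg : (f * g) ^ 4 = 1
  gb : (g * b) ^ 3 = 1
  ac : a * c = c * a
  ad : a * d = d * a
  ae : a * e = e * a
  af : a * f = f * a
  ag : a * g = g * a
  bd : b * d = d * b
  be : b * e = e * b
  ce : c * e = e * c
  cf : c * f = f * c
  cg : c * g = g * c
  df : d * f = f * d
  dg : d * g = g * d
  ef : e * f = f * e
  eg : e * g = g * e
  x1 : a = (c * d) ^ 4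
  x2 : a = (f * g) ^ 2
  x3 : (a * b * c * f) ^ 5 = 1
  x4 : (b * f * g) ^ 5 = 1
  x5 : ((b * c * d * c * d) ^ 5 * e) ^ 3 = 1

/-- The assignment of the seven generators. -/
def gens7 (a b c d e f g : G) : Suz.Gen → G
  | .a => a
  | .b => b
  | .c => c
  | .d => d
  | .e => e
  | .f => f
  | .g => g

theorem comm_sq {x y : G} (hx : x * x = 1) (hy : y * y = 1) (h : x * y = y * x) : (x * y) ^ 2 = 1 := by
  rw [pow_two]
  nth_rewrite 2 [h]
  rw [mul_assoc, ← mul_assoc y, hy, one_mul, hx]

theorem pow_swap {x y : G} {n : ℕ} (hx : x * x = 1) (h : (x * y) ^ n = 1) : (y * x) ^ n = 1 := by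
  have e : y * x = x⁻¹ * (x * y) * x := by group
  have h2 : ∀ k : ℕ, (x⁻¹ * (x * y) * x) ^ k = x⁻¹ * (x * y) ^ k * x := fun k => by
    induction k with
    | zero => simp
    | succ k ih => rw [pow_succ, ih, pow_succ]; group
  rw [e, h2, h, mul_one, inv_mul_cancel]

theorem iso_of_rels [Finite G] (hG : Nat.card G = 448345497600) {a b c d e f g : G} (R : Rels a b c d e f g)
    (hne : a ≠ 1) : Spor.IsoSuz G := by
  obtain ⟨hsimple, hcard⟩ := CfsgLib.Coset.Suz.isSuz
  haveI : Finite Spor.Suz := Nat.finite_of_card_ne_zero (by rw [hcard]; norm_num)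
  have hrels : ∀ r ∈ coxRelators Suz.edges ∪ {r | r ∈ Suz.extra}, FreeGroup.lift (gens7 a b c d e f g) r = 1 := by
    rintro r (⟨x, -, y, -, rfl⟩ | hr)
    · rw [map_pow, map_mul, FreeGroup.lift_apply_of, FreeGroup.lift_apply_of]
      cases x <;> cases y <;> simp [coxLabel, Suz.edges, gens7] <;>
        first
          | exact R.a2 | exact R.b2 | exact R.c2 | exact R.d2 | exact R.e2 | exact R.f2 | exact R.g2
          | exact R.ab | exact R.bc | exact R.cd | exact R.de | exact R.bf | exact R.fg | exact R.gb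
          | exact pow_swap R.a2 R.ab | exact pow_swap R.b2 R.bc | exact pow_swap R.c2 R.cd
          | exact pow_swap R.d2 R.de | exact pow_swap R.b2 R.bf | exact pow_swap R.f2 R.fg
          | exact pow_swap R.g2 R.gb
          | exact comm_sq R.a2 R.c2 R.ac | exact comm_sq R.c2 R.a2 R.ac.symm
          | exact comm_sq R.a2 R.d2 R.ad | exact comm_sq R.d2 R.a2 R.ad.symm
          | exact comm_sq R.a2 R.e2 R.ae | exact comm_sq R.e2 R.a2 R.ae.symm
          | exact comm_sq R.a2 R.f2 R.af | exact comm_sq R.f2 R.a2 R.af.symm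
          | exact comm_sq R.a2 R.g2 R.ag | exact comm_sq R.g2 R.a2 R.ag.symm
          | exact comm_sq R.b2 R.d2 R.bd | exact comm_sq R.d2 R.b2 R.bd.symm
          | exact comm_sq R.b2 R.e2 R.be | exact comm_sq R.e2 R.b2 R.be.symm
          | exact comm_sq R.c2 R.e2 R.ce | exact comm_sq R.e2 R.c2 R.ce.symm
          | exact comm_sq R.c2 R.f2 R.cf | exact comm_sq R.f2 R.c2 R.cf.symm
          | exact comm_sq R.c2 R.g2 R.cg | exact comm_sq R.g2 R.c2 R.cg.symm
          | exact comm_sq R.d2 R.f2 R.df | exact comm_sq R.f2 R.d2 R.df.symm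
          | exact comm_sq R.d2 R.g2 R.dg | exact comm_sq R.g2 R.d2 R.dg.symm
          | exact comm_sq R.e2 R.f2 R.ef | exact comm_sq R.f2 R.e2 R.ef.symm
          | exact comm_sq R.e2 R.g2 R.eg | exact comm_sq R.g2 R.e2 R.eg.symm
    · simp only [Set.mem_setOf_eq, Suz.extra, List.mem_cons, List.not_mem_nil, or_false] at hr
      rcases hr with rfl | rfl | rfl | rfl | rfl <;>
        simp only [map_mul, map_inv, map_pow, FreeGroup.lift_apply_of, gens7]
      · rw [← R.x1, mul_inv_cancel]
      · rw [← R.x2, mul_inv_cancel]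
      · exact R.x3
      · exact R.x4
      · exact R.x5
  let φ : Spor.Suz →* G := PresentedGroup.toGroup hrels
  have hinj : Function.Injective φ := by
    rw [← MonoidHom.ker_eq_bot_iff]
    refine (hsimple.eq_bot_or_eq_top_of_normal φ.ker φ.normal_ker).resolve_right fun htop => hne ?_
    rw [show a = φ (PresentedGroup.of Suz.Gen.a) from (PresentedGroup.toGroup.of (x := Suz.Gen.a) (h := hrels)).symm]
    exact MonoidHom.mem_ker.1 (htop.ge (Subgroup.mem_top _))
  exact ⟨(MulEquiv.ofBijective φ ((Nat.bijective_iff_injective_and_card φ).2 ⟨hinj, hcard.trans hG.symm⟩)).symm⟩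

end CfsgLib.SuzUniq
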